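import Cfsg.Agent.Lib.Spor.MTwelve.TwoShapes.Simple
import Cfsg.Agent.Lib.Spor.MTwelve.CentShape.Shape

/-!
The plain shape of the centraliser in the hypotheses of the recognition theorem.
-/

set_option autoImplicit false
set_option maxRecDepth 100000
set_option linter.style.haveILetI false

namespace Cfsg.Agent.MTwelve

open C0

theorem outer_product (c : C0) (hc : kd c = 2) : ∃ d : C0, (c * (d * c * d⁻¹)) ^ 32 ≠ 1 := by
  have h := forall_of_all (p := fun c => !(kd c == 2) || allEl.any fun d => !((c * (d * c * d⁻¹)) ^ 32 == 1))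
    (by decide +kernel) c
  simp [hc] at h
  obtain ⟨d, -, hd⟩ := h
  exact ⟨d, hd⟩

namespace CentShape

open Cfsg.Agent.MTwelve.OrderFront

universe u

/-- In the plain shape the group is `M12` or has the affine shape `2^3.L3(2)`. -/
theorem plain_cases {G : Type u} [Group G] [Finite G] {z : G} {K : Core z} {D : Gens false false G}
    (S : Shape K D) (hnwc : ∃ g : G, g * z * g⁻¹ ∈ K.Q ∧ g * z * g⁻¹ ≠ z) :
    (∃ (N : Subgroup G) (_ : N.Normal), IsMulCommutative N ∧ (∀ n ∈ N, n ^ 2 = 1) ∧ Nat.card N = 8 ∧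
      Nonempty (G ⧸ N ≃* Matrix.ProjectiveSpecialLinearGroup (Fin 3) (ZMod 2))) ∨ Cfsg.Spor.IsoM12 G := by
  obtain ⟨φ, hφ, hr, hz⟩ := c0Gens.exists_hom D c0Gens_bijective S.inj
    (H := Subgroup.centralizer ({z} : Set G)) S.mem_cent
  let E : MTwelve.Setup G := ⟨z, φ, hφ, hr, by rw [← S.z_eq]; exact hz⟩
  obtain ⟨g, hgQ, hgz⟩ := hnwc
  obtain ⟨c, hc⟩ := E.exists_pre (g := g * z * g⁻¹) (Subgroup.mem_centralizer_singleton_iff.1 (K.Q_le hgQ))
  have hX : E.IsX c := by rw [Setup.IsX, hc]; exact isConj_iff.2 ⟨g, rfl⟩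
  obtain ⟨h1, h4⟩ := E.isX_kd hX
  have hk : kd c = 3 := by
    have h1' : kd c ≠ 1 := fun e => hgz (by rw [← hc, (kd_eq_one c).1 e]; exact E.map_z)
    have h4' : kd c ≠ 4 := fun e => E.not_isX_4 e hX
    have h2' : kd c ≠ 2 := fun e => by
      obtain ⟨d, hd⟩ := outer_product c e
      refine hd (E.inj ?_)
      have hm : E.ι (c * (d * c * d⁻¹)) ∈ K.Q := by
        simp only [map_mul, map_inv, hc]
        exact mul_mem hgQ (K.conj_mem (Subgroup.mem_centralizer_singleton_iff.2 (E.commute_z d)) hgQ)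
      rw [map_pow, map_one, ← K.card_Q]
      exact congrArg Subtype.val (pow_card_eq_one' (x := (⟨_, hm⟩ : K.Q)))
    omega
  refine E.dichotomy ?_
  have := (E.isX_rep h1 h4).1 hX
  rwa [hk] at this

end CentShape

end Cfsg.Agent.MTwelve
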