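import Cfsg.Agent.Lib.Spor.MTwelve.Order
import Cfsg.Agent.Lib.Small.PSLThreeTwo

/-!
The involution centraliser of the Mathieu group of degree twelve inside the affine group of order 1344.
-/

set_option autoImplicit false
set_option maxRecDepth 100000
set_option linter.style.haveILetI false

namespace Cfsg.Agent.MTwelve

open C0

/-- coordinates of the elementary abelian subgroup of order eight -/
def axis (v : Fin 3 → ZMod 2) : C0 := el 1 ^ (v 0).val * el 18 ^ (v 1).val * el 24 ^ (v 2).val

theorem axis_mul : ∀ v w : Fin 3 → ZMod 2, axis (v + w) = axis v * axis w := by decide +kernel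

theorem axis_inj : ∀ v : Fin 3 → ZMod 2, axis v = 1 → v = 0 := by decide +kernel

theorem axis_mem : ∀ v : Fin 3 → ZMod 2, axis v = 1 ∨ xB false (axis v) = true := by decide +kernel

theorem axis_cover (c : C0) (hc : c = 1 ∨ xB false c = true) : ∃ v, axis v = c := by
  have h := forall_of_all (p := fun c => decide ((c = 1 ∨ xB false c = true) → ∃ v, axis v = c))
    (by decide +kernel) c
  exact of_decide_eq_true h hc

theorem axis_cent (c : C0) (hc : ∀ v, c * axis v = axis v * c) : ∃ v, axis v = c := by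
  have h := forall_of_all (p := fun c => decide ((∀ v, c * axis v = axis v * c) → ∃ v, axis v = c))
    (by decide +kernel) c
  exact of_decide_eq_true h hc

theorem zmod_two_one : ∀ a : ZMod 2, a ≠ 0 → a = 1 := by decide

/-- `GL(3,2)` is `PSL(3,2)`. -/
theorem gl_three_two_psl :
    Nonempty (GL (Fin 3) (ZMod 2) ≃* Matrix.ProjectiveSpecialLinearGroup (Fin 3) (ZMod 2)) := by
  haveI : Fact (Nat.Prime 2) := ⟨Nat.prime_two⟩
  let s : GL (Fin 3) (ZMod 2) ≃* Matrix.SpecialLinearGroup (Fin 3) (ZMod 2) :=
    { toFun := fun g => ⟨g, zmod_two_one _ ((Matrix.isUnit_iff_isUnit_det _).1 g.isUnit).ne_zero⟩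
      invFun := fun A => Matrix.SpecialLinearGroup.toGL A
      left_inv := fun g => Units.ext rfl
      right_inv := fun A => Subtype.ext rfl
      map_mul' := fun a b => rfl }
  refine ⟨s.trans (MulEquiv.ofBijective (QuotientGroup.mk' _)
    ⟨(injective_iff_map_eq_one _).2 fun A hA => ?_, QuotientGroup.mk'_surjective _⟩)⟩
  obtain ⟨r, hr, hA'⟩ := Matrix.SpecialLinearGroup.mem_center_iff.1 ((QuotientGroup.eq_one_iff A).1 hA)
  have hr1 : r = 1 := zmod_two_one r fun e => by rw [e, zero_pow Fintype.card_ne_zero] at hr; exact zero_ne_one hr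
  refine Subtype.ext ?_
  rw [← hA', hr1, map_one]
  rfl

/-- The automorphisms of the elementary abelian group of order eight embed in `PSL(3,2)`. -/
theorem exists_aut_hom :
    ∃ f : MulAut (Multiplicative (Fin 3 → ZMod 2)) →* Matrix.ProjectiveSpecialLinearGroup (Fin 3) (ZMod 2),
      Function.Injective f := by
  obtain ⟨e⟩ := gl_three_two_psl
  let lin : MulAut (Multiplicative (Fin 3 → ZMod 2)) →* ((Fin 3 → ZMod 2) ≃ₗ[ZMod 2] (Fin 3 → ZMod 2)) :=
    { toFun := fun a => (AddEquiv.toMultiplicative.symm a).toLinearEquiv fun r v => ZMod.map_smul (AddEquiv.toMultiplicative.symm a) r v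
      map_one' := LinearEquiv.ext fun v => rfl
      map_mul' := fun a b => LinearEquiv.ext fun v => rfl }
  have hlin : Function.Injective lin := fun a b h => MulEquiv.ext fun v =>
    congrArg Multiplicative.ofAdd (LinearEquiv.congr_fun h (Multiplicative.toAdd v))
  let g : ((Fin 3 → ZMod 2) ≃ₗ[ZMod 2] (Fin 3 → ZMod 2)) →* GL (Fin 3) (ZMod 2) :=
    ((LinearMap.GeneralLinearGroup.generalLinearEquiv (ZMod 2) (Fin 3 → ZMod 2)).symm.trans
      Matrix.GeneralLinearGroup.toLin.symm).toMonoidHom
  refine ⟨e.toMonoidHom.comp (g.comp lin), fun a b h => hlin ?_⟩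
  exact ((LinearMap.GeneralLinearGroup.generalLinearEquiv (ZMod 2) (Fin 3 → ZMod 2)).symm.trans
      Matrix.GeneralLinearGroup.toLin.symm).injective (e.injective h)

namespace Setup

variable {G : Type*} [Group G] [Finite G]

/-- In the affine case the seven conjugates form a normal subgroup with quotient `PSL(3,2)`. -/
theorem affine (D : Setup G) (ha : D.IsX a0) (hcol : D.col = false) :
    ∃ (N : Subgroup G) (_ : N.Normal), IsMulCommutative N ∧ (∀ n ∈ N, n ^ 2 = 1) ∧ Nat.card N = 8 ∧
      Nonempty (G ⧸ N ≃* Matrix.ProjectiveSpecialLinearGroup (Fin 3) (ZMod 2)) := by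
  obtain ⟨hcard, hsig⟩ := D.row_facts ha hcol
  let j : Multiplicative (Fin 3 → ZMod 2) →* G := D.ι.comp
    { toFun := fun v => axis v.toAdd
      map_one' := (by decide +kernel : axis 0 = 1)
      map_mul' := fun v w => axis_mul v.toAdd w.toAdd }
  have hj : Function.Injective j := (injective_iff_map_eq_one j).2 fun v hv => by
    refine Multiplicative.toAdd.injective (axis_inj _ (D.inj ?_))
    rw [map_one]
    exact hv
  let N := j.range
  have hmem : ∀ y, y ∈ N ↔ (y = 1 ∨ IsConj D.z y) := by
    intro y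
    constructor
    · rintro ⟨v, rfl⟩
      rcases axis_mem v.toAdd with e | e
      · left
        show D.ι (axis v.toAdd) = 1
        rw [e, map_one]
      · exact Or.inr ((D.isX_iff ha _).2 (by rw [hcol]; exact e))
    · rintro (rfl | hy)
      · exact one_mem _
      · obtain ⟨c, hc⟩ := D.exists_pre (hsig y hy).2
        obtain ⟨v, hv⟩ := axis_cover c (Or.inr (by
          have := (D.isX_iff ha c).1 (by rw [IsX, hc]; exact hy)
          rwa [hcol] at this))
        exact ⟨Multiplicative.ofAdd v, by rw [← hc, ← hv]; rfl⟩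
  haveI hN : N.Normal := ⟨fun x hx g => by
    rcases (hmem x).1 hx with rfl | h
    · rw [mul_one, mul_inv_cancel]; exact one_mem _
    · exact (hmem _).2 (Or.inr (h.trans (isConj_iff.2 ⟨g, rfl⟩)))⟩
  let ψ : Multiplicative (Fin 3 → ZMod 2) ≃* N := MonoidHom.ofInjective hj
  have hsq : ∀ v : Multiplicative (Fin 3 → ZMod 2), v ^ 2 = 1 := by decide
  have hN8 : Nat.card N = 8 := by
    rw [← Nat.card_congr ψ.toEquiv, Nat.card_eq_fintype_card]
    rfl
  refine ⟨N, hN, ⟨⟨fun a b => ?_⟩⟩, fun n hn => ?_, hN8, ?_⟩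
  · obtain ⟨v, rfl⟩ := ψ.surjective a
    obtain ⟨w, rfl⟩ := ψ.surjective b
    rw [← map_mul, ← map_mul, mul_comm v w]
  · obtain ⟨v, rfl⟩ := hn
    rw [← map_pow, hsq, map_one]
  obtain ⟨f, hf⟩ := exists_aut_hom
  let ρ : G →* Matrix.ProjectiveSpecialLinearGroup (Fin 3) (ZMod 2) :=
    f.comp ((MulAut.congr ψ.symm).toMonoidHom.comp (MulAut.conjNormal (H := N)))
  have hker : ρ.ker = N := by
    ext x
    rw [MonoidHom.mem_ker]
    constructor
    · intro hx
      have h1 : MulAut.conjNormal (H := N) x = 1 := (MulAut.congr ψ.symm).injective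
        (hf ((hx.trans (map_one f).symm).trans (congrArg f (map_one _).symm)))
      have hcomm : ∀ n ∈ N, x * n = n * x := fun n hn => by
        have := congrArg (fun a : MulAut N => ((a ⟨n, hn⟩ : N) : G)) h1
        simp only [MulAut.conjNormal_apply, MulAut.one_apply] at this
        exact mul_inv_eq_iff_eq_mul.1 this
      obtain ⟨c, hc⟩ := D.exists_pre (hcomm D.z ((hmem _).2 (Or.inr (IsConj.refl _))))
      obtain ⟨v, hv⟩ := axis_cent c fun v => D.inj (by
        rw [map_mul, map_mul, hc]
        exact hcomm _ ⟨Multiplicative.ofAdd v, rfl⟩)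
      exact ⟨Multiplicative.ofAdd v, by rw [← hc, ← hv]; rfl⟩
    · intro hx
      have h1 : MulAut.conjNormal (H := N) x = 1 := MulEquiv.ext fun n => Subtype.ext (by
        rw [MulAut.conjNormal_apply, MulAut.one_apply]
        obtain ⟨v, rfl⟩ := hx
        obtain ⟨w, hw⟩ := n.2
        rw [← hw, ← map_mul, mul_comm v w, map_mul, mul_inv_cancel_right])
      show f ((MulAut.congr ψ.symm) (MulAut.conjNormal (H := N) x)) = 1
      rw [h1, map_one, map_one]
  haveI : Finite (Matrix.SpecialLinearGroup (Fin 3) (ZMod 2)) := Subtype.finite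
  have h168 := (Small.PSLThreeTwo.psl_three_two (F := ZMod 2) (ZMod.card 2)).2
  have hidx : ρ.ker.index = 168 := by
    have := N.card_mul_index
    rw [hN8, hcard] at this
    rw [hker]
    omega
  have hsurj : ρ.range = ⊤ := Subgroup.eq_top_of_card_eq _ (by rw [← Subgroup.index_ker, hidx, h168])
  exact ⟨((QuotientGroup.quotientMulEquivOfEq hker.symm).trans (QuotientGroup.quotientKerEquivRange ρ)).trans
    ((MulEquiv.subgroupCongr hsurj).trans Subgroup.topEquiv)⟩

end Setup

end Cfsg.Agent.MTwelve
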