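import Cfsg.Agent.Lib.Spor.MTwelve.TwoShapes.Affine
import Cfsg.Agent.Lib.Spor.MTwelve.Index

/-!
The two groups with the involution centraliser of the Mathieu group of degree twelve and a non-central conjugate
of the involution in the two-core.
-/

set_option autoImplicit false
set_option maxRecDepth 100000
set_option linter.style.haveILetI false

namespace Cfsg.Agent.MTwelve

open C0

/-- every non-trivial normal subgroup of the model contains the central involution -/
theorem commutator_z0 (c : C0) (hc : c ≠ 1) :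
    c = z0 ∨ ∃ d, c * d * c⁻¹ * d⁻¹ = z0 ∨ ∃ e, c * d * c⁻¹ * d⁻¹ * e * (c * d * c⁻¹ * d⁻¹)⁻¹ * e⁻¹ = z0 := by
  have h := forall_of_all (p := fun c => c == 1 || c == z0 || (allEl.filter inQ).any fun d =>
    c * d * c⁻¹ * d⁻¹ == z0 || (allEl.filter inQ).any fun e =>
      c * d * c⁻¹ * d⁻¹ * e * (c * d * c⁻¹ * d⁻¹)⁻¹ * e⁻¹ == z0) (by decide +kernel) c
  simp only [Bool.or_eq_true, beq_iff_eq, List.any_eq_true] at h
  rcases h with (h | h) | ⟨d, -, h | ⟨e, -, h⟩⟩
  · exact absurd h hc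
  · exact Or.inl h
  · exact Or.inr ⟨d, Or.inl h⟩
  · exact Or.inr ⟨d, Or.inr ⟨e, h⟩⟩

/-- the involutions of the first class generate -/
theorem three_invols (c : C0) : ∃ a b d : C0, (a = 1 ∨ xB true a = true) ∧ (b = 1 ∨ xB true b = true) ∧
    (d = 1 ∨ xB true d = true) ∧ a * b * d = c := by
  have h := forall_of_all (p := fun c => (allEl.filter fun a => a == 1 || xB true a).any fun a =>
    (allEl.filter fun a => a == 1 || xB true a).any fun b =>
      ((a * b)⁻¹ * c == 1 || xB true ((a * b)⁻¹ * c))) (by decide +kernel) c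
  simp only [List.any_eq_true, List.mem_filter, Bool.or_eq_true, beq_iff_eq] at h
  obtain ⟨a, ⟨-, ha⟩, b, ⟨-, hb⟩, hd⟩ := h
  exact ⟨a, b, _, ha, hb, hd, mul_inv_cancel_left _ _⟩

theorem model_noncomm : ∃ a b : C0, a * b ≠ b * a := ⟨r0, el 44, by decide +kernel⟩

/-- A fixed-point-free conjugation by an involution inverts every element. -/
theorem inverts_of_fixed_free {G : Type*} [Group G] [Finite G] {N : Subgroup G} [hN : N.Normal] {x : G}
    (hx : x * x = 1) (hfree : ∀ n ∈ N, n * x = x * n → n = 1) : ∀ n ∈ N, x * n * x = n⁻¹ := by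
  have hxi : x⁻¹ = x := inv_eq_of_mul_eq_one_left hx
  have hmem : ∀ q ∈ N, x * q * x ∈ N := fun q hq => by
    have := hN.conj_mem q hq x
    rwa [hxi] at this
  let f : N → N := fun q => ⟨(q : G)⁻¹ * (x * q * x), N.mul_mem (N.inv_mem q.2) (hmem q q.2)⟩
  have hf : Function.Injective f := fun q q' e => by
    have e' : (q : G)⁻¹ * (x * q * x) = (q' : G)⁻¹ * (x * q' * x) := congrArg Subtype.val e
    refine Subtype.ext (mul_inv_eq_one.1 (hfree _ (N.mul_mem q.2 (N.inv_mem q'.2)) ?_))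
    calc (q : G) * (q' : G)⁻¹ * x
        = (q : G) * ((q' : G)⁻¹ * (x * q' * x)) * (x⁻¹ * (q' : G)⁻¹ * x⁻¹ * x) := by group
      _ = (q : G) * ((q : G)⁻¹ * (x * q * x)) * (x⁻¹ * (q' : G)⁻¹ * x⁻¹ * x) := by rw [e']
      _ = x * ((q : G) * (q' : G)⁻¹) := by group
  intro n hn
  obtain ⟨q, hq⟩ := Finite.injective_iff_surjective.1 hf ⟨n, hn⟩
  have e : (q : G)⁻¹ * (x * q * x) = n := congrArg Subtype.val hq
  rw [← e]
  calc x * ((q : G)⁻¹ * (x * q * x)) * x = x * (q : G)⁻¹ * x * q * (x * x) := by group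
    _ = x⁻¹ * (q : G)⁻¹ * x⁻¹ * q := by rw [hx, hxi, mul_one]
    _ = ((q : G)⁻¹ * (x * q * x))⁻¹ := by group

namespace Setup

variable {G : Type*} [Group G] [Finite G]

theorem simple_of_col (D : Setup G) (ha : D.IsX a0) (hcol : D.col = true) : IsSimpleGroup G := by
  have hX : ∀ c, xB true c = true → IsConj D.z (D.ι c) := fun c hc => (D.isX_iff ha c).2 (by rw [hcol]; exact hc)
  haveI : Nontrivial G := ⟨D.z, 1, D.z_ne⟩
  refine ⟨fun N hN => ?_⟩
  haveI := hN
  by_cases hz : D.z ∈ N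
  · right
    have hxN : ∀ c, c = 1 ∨ xB true c = true → D.ι c ∈ N := by
      rintro c (rfl | hc)
      · rw [map_one]; exact one_mem _
      · obtain ⟨g, hg⟩ := isConj_iff.1 (hX c hc)
        rw [← hg]
        exact hN.conj_mem _ hz g
    have hall : ∀ c, D.ι c ∈ N := fun c => by
      obtain ⟨a, b, d, ha, hb, hd, rfl⟩ := three_invols c
      rw [map_mul, map_mul]
      exact mul_mem (mul_mem (hxN a ha) (hxN b hb)) (hxN d hd)
    haveI : Fact (Nat.Prime 2) := ⟨Nat.prime_two⟩
    obtain ⟨P, hP⟩ := D.exists_sylow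
    have hPN : (P : Subgroup G) ≤ N := by
      rw [hP]
      rintro _ ⟨c, -, rfl⟩
      exact hall c
    rw [eq_top_iff, ← Sylow.normalizer_sup_eq_top' P hPN]
    refine sup_le (fun g hg => ?_) le_rfl
    -- the normaliser of the Sylow subgroup centralises the involution
    have hzP : D.ι z0 ∈ (P : Subgroup G) := hP ▸
      Subgroup.mem_map_of_mem D.ι (show z0 ∈ S0g from by show inS z0 = true; decide +kernel)
    have hgz : g * D.z * g⁻¹ ∈ (P : Subgroup G) := by
      rw [← D.map_z]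
      exact (Subgroup.mem_normalizer_iff.1 hg _).1 hzP
    rw [hP] at hgz
    obtain ⟨c, hcS, hc⟩ := Subgroup.mem_map.1 hgz
    have hc' : c = z0 := by
      refine S0g_center c (D.inj ?_) (fun e => D.z_ne ?_) fun s hs => D.inj ?_
      · rw [map_mul, hc, map_one]
        calc g * D.z * g⁻¹ * (g * D.z * g⁻¹) = g * (D.z * D.z) * g⁻¹ := by group
          _ = 1 := by rw [D.z_sq]; group
      · rw [e, map_one] at hc
        exact conj_eq_one_iff.1 hc.symm
      · rw [map_mul, map_mul, hc]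
        have hs' : g⁻¹ * D.ι s * g ∈ (P : Subgroup G) := by
          refine (Subgroup.mem_normalizer_iff.1 hg _).2 ?_
          rw [show g * (g⁻¹ * D.ι s * g) * g⁻¹ = D.ι s by group]
          exact hP ▸ Subgroup.mem_map_of_mem D.ι hs
        rw [hP] at hs'
        obtain ⟨s', -, hs'⟩ := Subgroup.mem_map.1 hs'
        calc g * D.z * g⁻¹ * D.ι s = g * (D.z * (g⁻¹ * D.ι s * g)) * g⁻¹ := by group
          _ = g * (g⁻¹ * D.ι s * g * D.z) * g⁻¹ := by rw [← hs', D.commute_z]
          _ = D.ι s * (g * D.z * g⁻¹) := by group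
    rw [hc', D.map_z] at hc
    obtain ⟨d, hd⟩ := D.exists_pre (g := g) (by
      calc g * D.z = g * D.z * g⁻¹ * g := by group
        _ = D.z * g := by rw [← hc])
    exact hd ▸ hall d
  · left
    have hfree : ∀ n ∈ N, n * D.z = D.z * n → n = 1 := by
      intro n hn hnz
      obtain ⟨c, rfl⟩ := D.exists_pre hnz
      by_contra hne
      have hc1 : c ≠ 1 := fun e => hne (by rw [e, map_one])
      have hcm : ∀ u d : C0, D.ι u ∈ N → D.ι (u * d * u⁻¹ * d⁻¹) ∈ N := fun u d hu => by
        simp only [map_mul, map_inv, mul_assoc]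
        refine N.mul_mem hu ?_
        have := hN.conj_mem _ (N.inv_mem hu) (D.ι d)
        simpa [mul_assoc] using this
      apply hz
      rw [← D.map_z]
      rcases commutator_z0 c hc1 with h | ⟨d, h | ⟨e, h⟩⟩
      · exact h ▸ hn
      · exact h ▸ hcm c d hn
      · exact h ▸ hcm _ e (hcm c d hn)
    have hfreeX : ∀ x, IsConj D.z x → ∀ n ∈ N, n * x = x * n → n = 1 := by
      intro x hx n hn hc
      obtain ⟨g, rfl⟩ := isConj_iff.1 hx
      have h1 := hfree (g⁻¹ * n * g) (by simpa using hN.conj_mem n hn g⁻¹) (by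
        calc g⁻¹ * n * g * D.z = g⁻¹ * (n * (g * D.z * g⁻¹)) * g := by group
          _ = g⁻¹ * (g * D.z * g⁻¹ * n) * g := by rw [hc]
          _ = D.z * (g⁻¹ * n * g) := by group)
      calc n = g * (g⁻¹ * n * g) * g⁻¹ := by group
        _ = 1 := by rw [h1]; group
    have hinv : ∀ c, xB true c = true → ∀ n ∈ N, D.ι c * n * D.ι c = n⁻¹ := fun c hc =>
      inverts_of_fixed_free (by
        obtain ⟨g, hg⟩ := isConj_iff.1 (hX c hc)
        rw [← hg]
        calc g * D.z * g⁻¹ * (g * D.z * g⁻¹) = g * (D.z * D.z) * g⁻¹ := by group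
          _ = 1 := by rw [D.z_sq]; group) (hfreeX _ (hX c hc))
    rw [eq_bot_iff]
    intro n hn
    rw [Subgroup.mem_bot]
    have h1 := hinv z0 (by decide +kernel) n hn
    have h2 := hinv a0 (by decide +kernel) n⁻¹ (N.inv_mem hn)
    have h3 := hinv (z0 * a0) (by decide +kernel) n hn
    rw [show D.ι (z0 * a0) * n * D.ι (z0 * a0) = D.ι a0 * (D.ι z0 * n * D.ι z0) * D.ι a0 by
      rw [show D.ι (z0 * a0) * n * D.ι (z0 * a0) = D.ι (a0 * z0) * n * D.ι (z0 * a0) by rw [z0_central]]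
      simp only [map_mul, mul_assoc], h1, h2, inv_inv] at h3
    refine hfree n hn ?_
    rw [← h3, D.map_z] at h1
    calc n * D.z = D.z * n * D.z * D.z := by rw [h1]
      _ = D.z * n := by rw [mul_assoc, D.z_sq, mul_one]

theorem dichotomy {G : Type*} [Group G] [Finite G] (D : Setup G) (ha : D.IsX a0) :
    (∃ (N : Subgroup G) (_ : N.Normal), IsMulCommutative N ∧ (∀ n ∈ N, n ^ 2 = 1) ∧ Nat.card N = 8 ∧
      Nonempty (G ⧸ N ≃* Matrix.ProjectiveSpecialLinearGroup (Fin 3) (ZMod 2))) ∨ Cfsg.Spor.IsoM12 G := by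
  cases hcol : D.col
  · exact Or.inl (D.affine ha hcol)
  · haveI := D.simple_of_col ha hcol
    refine Or.inr (isoM12_of_setup (fun h => ?_) D)
    obtain ⟨a, b, hab⟩ := model_noncomm
    exact hab (D.inj (by rw [map_mul, map_mul]; exact h.is_comm.comm _ _))

end Setup

end Cfsg.Agent.MTwelve
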